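import Groth.Prelude.Def_FlatMod2
import Groth.Agent.H23.Frame
import Groth.Agent.QCoh.Sections
import Mathlib.CategoryTheory.Sites.EpiMono
import Mathlib.LinearAlgebra.TensorProduct.Basic
import Mathlib.RingTheory.Flat.Basic

/-!
Extension of scalars along a central morphism of sheaves of rings `O_X ⟶ A`, and the preservation
of injectives by restriction of scalars when `A` is finite locally free.
-/

universe u

open CategoryTheory CategoryTheory.Limits AlgebraicGeometry TopologicalSpace Opposite TensorProduct

namespace Groth.Agent.AlgExt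

variable {X : Scheme.{u}} {A : Sheaf (Opens.grothendieckTopology X) RingCat.{u}}
  (φ : X.ringCatSheaf ⟶ A)
  (hcen : ∀ (U : (Opens X)ᵒᵖ) (s : X.ringCatSheaf.obj.obj U) (a : A.obj.obj U),
      φ.hom.app U s * a = a * φ.hom.app U s)

/-- The algebra structure on the sections of `A`. -/
noncomputable abbrev alg (V : (Opens X)ᵒᵖ) : Algebra Γ(X, V.unop) (A.obj.obj V) :=
  RingHom.toAlgebra' (φ.hom.app V).hom (hcen V)

lemma phi_res {V W : (Opens X)ᵒᵖ} (f : V ⟶ W) (r : Γ(X, V.unop)) :
    A.obj.map f ((φ.hom.app V).hom r) = (φ.hom.app W).hom (X.presheaf.map f r) :=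
  (ConcreteCategory.congr_hom (φ.hom.naturality f) r).symm

/-- The sections of `A ⊗ M`. -/
abbrev Tens (M : X.Modules) (V : (Opens X)ᵒᵖ) : Type u :=
  @TensorProduct Γ(X, V.unop) _ (A.obj.obj V) Γ(M, V.unop) _ _ (alg φ hcen V).toModule _

@[reducible] noncomputable instance tensModule (M : X.Modules) (V : (Opens X)ᵒᵖ) :
    Module (A.obj.obj V) (Tens φ hcen M V) :=
  letI := alg φ hcen V
  TensorProduct.leftModule

/-- pure tensors -/
noncomputable def tp (M : X.Modules) (V : (Opens X)ᵒᵖ) (a : A.obj.obj V) (m : Γ(M, V.unop)) :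
    Tens φ hcen M V :=
  letI := alg φ hcen V
  a ⊗ₜ[Γ(X, V.unop)] m

variable {φ hcen}

@[elab_as_elim]
theorem tens_induction {M : X.Modules} {V : (Opens X)ᵒᵖ} {P : Tens φ hcen M V → Prop}
    (t : Tens φ hcen M V) (h0 : P 0) (ht : ∀ a m, P (tp φ hcen M V a m))
    (hadd : ∀ x y, P x → P y → P (x + y)) : P t := by
  letI := alg φ hcen V
  exact TensorProduct.induction_on t h0 ht hadd

theorem smul_tp {M : X.Modules} {V : (Opens X)ᵒᵖ} (b a : A.obj.obj V) (m : Γ(M, V.unop)) :
    b • tp φ hcen M V a m = tp φ hcen M V (b * a) m := rfl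

theorem tp_add {M : X.Modules} {V : (Opens X)ᵒᵖ} (a : A.obj.obj V) (m m' : Γ(M, V.unop)) :
    tp φ hcen M V a (m + m') = tp φ hcen M V a m + tp φ hcen M V a m' := by
  letI := alg φ hcen V
  exact TensorProduct.tmul_add a m m'

theorem add_tp {M : X.Modules} {V : (Opens X)ᵒᵖ} (a a' : A.obj.obj V) (m : Γ(M, V.unop)) :
    tp φ hcen M V (a + a') m = tp φ hcen M V a m + tp φ hcen M V a' m := by
  letI := alg φ hcen V
  exact TensorProduct.add_tmul a a' m

theorem tp_smul {M : X.Modules} {V : (Opens X)ᵒᵖ} (a : A.obj.obj V) (r : Γ(X, V.unop))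
    (m : Γ(M, V.unop)) :
    tp φ hcen M V a (r • m) = tp φ hcen M V ((φ.hom.app V).hom r * a) m := by
  letI := alg φ hcen V
  exact (TensorProduct.smul_tmul r a m).symm

/-- linear maps out of the tensor product -/
noncomputable def lift {M : X.Modules} {V : (Opens X)ᵒᵖ} {G : Type u} [AddCommGroup G]
    (f : A.obj.obj V →+ Γ(M, V.unop) →+ G)
    (hf : ∀ (r : Γ(X, V.unop)) a m, f ((φ.hom.app V).hom r * a) m = f a (r • m)) :
    Tens φ hcen M V →+ G :=
  letI := alg φ hcen V
  TensorProduct.liftAddHom f fun r a m => hf r a m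

@[simp] theorem lift_tp {M : X.Modules} {V : (Opens X)ᵒᵖ} {G : Type u} [AddCommGroup G]
    (f : A.obj.obj V →+ Γ(M, V.unop) →+ G)
    (hf : ∀ (r : Γ(X, V.unop)) a m, f ((φ.hom.app V).hom r * a) m = f a (r • m))
    (a : A.obj.obj V) (m : Γ(M, V.unop)) :
    lift f hf (tp φ hcen M V a m) = f a m := rfl

variable (φ hcen)

/-- restriction maps -/
noncomputable def res (M : X.Modules) {V W : (Opens X)ᵒᵖ} (f : V ⟶ W) :
    Tens φ hcen M V →+ Tens φ hcen M W :=
  lift
    (AddMonoidHom.mk' (fun a => AddMonoidHom.mk'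
        (fun m => tp φ hcen M W (A.obj.map f a) (M.presheaf.map f m))
        (fun m m' => by rw [map_add, tp_add]))
      (fun a a' => by
        ext m
        show tp φ hcen M W (A.obj.map f (a + a')) _ = tp φ hcen M W _ _ + tp φ hcen M W _ _
        rw [map_add, add_tp]))
    (fun r a m => by
      show tp φ hcen M W (A.obj.map f ((φ.hom.app V).hom r * a)) (M.presheaf.map f m) =
        tp φ hcen M W (A.obj.map f a) (M.presheaf.map f (r • m))
      rw [map_mul, phi_res φ f]
      exact ((congrArg (tp φ hcen M W _) (Scheme.Modules.map_smul M f.unop r m)).trans (tp_smul _ _ _)).symm)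

theorem res_tp (M : X.Modules) {V W : (Opens X)ᵒᵖ} (f : V ⟶ W) (a : A.obj.obj V)
    (m : Γ(M, V.unop)) :
    res φ hcen M f (tp φ hcen M V a m) = tp φ hcen M W (A.obj.map f a) (M.presheaf.map f m) := rfl

/-- the underlying presheaf of `A ⊗ M` -/
noncomputable def tensAb (M : X.Modules) : (Opens X)ᵒᵖ ⥤ Ab.{u} where
  obj V := AddCommGrpCat.of (Tens φ hcen M V)
  map f := AddCommGrpCat.ofHom (res φ hcen M f)
  map_id V := by
    ext t
    change res φ hcen M (𝟙 V) t = t
    induction t using tens_induction with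
    | h0 => rw [map_zero]
    | ht a m => rw [res_tp, A.obj.map_id, M.presheaf.map_id]; rfl
    | hadd x y hx hy => rw [map_add, hx, hy]
  map_comp {U V W} f g := by
    ext t
    change res φ hcen M (f ≫ g) t = res φ hcen M g (res φ hcen M f t)
    induction t using tens_induction with
    | h0 => rw [map_zero, map_zero, map_zero]
    | ht a m => rw [res_tp, res_tp, res_tp, A.obj.map_comp, M.presheaf.map_comp]; rfl
    | hadd x y hx hy => rw [map_add, hx, hy, map_add, map_add]

noncomputable instance (M : X.Modules) (V : (Opens X)ᵒᵖ) :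
    Module (A.obj.obj V) ((tensAb φ hcen M).obj V) :=
  inferInstanceAs (Module (A.obj.obj V) (Tens φ hcen M V))

theorem res_smul (M : X.Modules) {V W : (Opens X)ᵒᵖ} (f : V ⟶ W) (b : A.obj.obj V)
    (t : Tens φ hcen M V) :
    res φ hcen M f (b • t) = A.obj.map f b • res φ hcen M f t := by
  induction t using tens_induction with
  | h0 => rw [smul_zero, map_zero, smul_zero]
  | ht a m => rw [smul_tp, res_tp, res_tp, smul_tp, map_mul]
  | hadd x y hx hy => rw [smul_add, map_add, hx, hy, map_add, smul_add]

/-- `A ⊗ M` as a presheaf of `A`-modules -/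
noncomputable def tensPre (M : X.Modules) : PresheafOfModules.{u} A.obj :=
  PresheafOfModules.ofPresheaf (tensAb φ hcen M) fun _ _ f r m => res_smul φ hcen M f r m

/-- the map of tensor products -/
noncomputable def tmapApp {M M' : X.Modules} (f : M ⟶ M') (V : (Opens X)ᵒᵖ) :
    Tens φ hcen M V →+ Tens φ hcen M' V :=
  lift
    (AddMonoidHom.mk' (fun a => AddMonoidHom.mk'
        (fun m => tp φ hcen M' V a (f.app V.unop m))
        (fun m m' => by rw [map_add, tp_add]))
      (fun a a' => by
        ext m
        exact add_tp a a' (f.app V.unop m)))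
    (fun r a m => by
      show tp φ hcen M' V _ (f.app V.unop m) = tp φ hcen M' V a (f.app V.unop (r • m))
      rw [Scheme.Modules.Hom.app_smul, tp_smul])

theorem tmapApp_tp {M M' : X.Modules} (f : M ⟶ M') (V : (Opens X)ᵒᵖ) (a : A.obj.obj V)
    (m : Γ(M, V.unop)) :
    tmapApp φ hcen f V (tp φ hcen M V a m) = tp φ hcen M' V a (f.app V.unop m) := rfl

theorem tmapApp_smul {M M' : X.Modules} (f : M ⟶ M') (V : (Opens X)ᵒᵖ) (b : A.obj.obj V)
    (t : Tens φ hcen M V) :
    tmapApp φ hcen f V (b • t) = b • tmapApp φ hcen f V t := by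
  induction t using tens_induction with
  | h0 => rw [smul_zero, map_zero, smul_zero]
  | ht a m => rw [smul_tp, tmapApp_tp, tmapApp_tp, smul_tp]
  | hadd x y hx hy => rw [smul_add, map_add, hx, hy, map_add, smul_add]

theorem res_tmapApp {M M' : X.Modules} (f : M ⟶ M') {V W : (Opens X)ᵒᵖ} (g : V ⟶ W)
    (t : Tens φ hcen M V) :
    tmapApp φ hcen f W (res φ hcen M g t) = res φ hcen M' g (tmapApp φ hcen f V t) := by
  induction t using tens_induction with
  | h0 => rw [map_zero, map_zero, map_zero, map_zero]
  | ht a m =>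
    rw [res_tp, tmapApp_tp, tmapApp_tp, res_tp]
    exact congrArg (tp φ hcen M' W _) (ConcreteCategory.congr_hom (f.mapPresheaf.naturality g) m)
  | hadd x y hx hy => rw [map_add, map_add, hx, hy, map_add, map_add]

/-- functoriality of `A ⊗ M` -/
noncomputable def tmap {M M' : X.Modules} (f : M ⟶ M') : tensPre φ hcen M ⟶ tensPre φ hcen M' :=
  PresheafOfModules.homMk
    { app := fun V => AddCommGrpCat.ofHom (tmapApp φ hcen f V)
      naturality := fun V W g => by
        ext t
        exact res_tmapApp φ hcen f g t }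
    (fun V b t => tmapApp_smul φ hcen f V b t)

/-- the unit `m ↦ 1 ⊗ m` -/
noncomputable def unitApp (M : X.Modules) (V : (Opens X)ᵒᵖ) : Γ(M, V.unop) →+ Tens φ hcen M V :=
  AddMonoidHom.mk' (fun m => tp φ hcen M V 1 m) (fun m m' => tp_add 1 m m')

theorem unitApp_smul (M : X.Modules) (V : (Opens X)ᵒᵖ) (r : Γ(X, V.unop)) (m : Γ(M, V.unop)) :
    unitApp φ hcen M V (r • m) = (φ.hom.app V).hom r • unitApp φ hcen M V m :=
  tp_smul 1 r m

/-- the adjoint of a morphism `M ⟶ restrictScalars N`, on sections -/
noncomputable def descApp {M : X.Modules} {N : SheafOfModules.{u} A}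
    (g : M ⟶ (SheafOfModules.restrictScalars φ).obj N) (V : (Opens X)ᵒᵖ) :
    Tens φ hcen M V →+ N.val.obj V :=
  lift
    (AddMonoidHom.mk' (fun a => AddMonoidHom.mk'
        (fun m => a • (show N.val.obj V from g.val.app V m))
        (fun m m' => by
          show a • _ = a • _ + a • _
          rw [← smul_add]; exact congrArg (a • ·) (map_add (g.val.app V).hom m m')))
      (fun a a' => by
        ext m
        exact add_smul a a' _))
    (fun r a m => by
      show ((φ.hom.app V).hom r * a) • (show N.val.obj V from g.val.app V m) =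
        a • (show N.val.obj V from g.val.app V (r • m))
      rw [hcen, mul_smul]
      exact congrArg (a • ·) ((g.val.app V).hom.map_smul r m).symm)

theorem descApp_tp {M : X.Modules} {N : SheafOfModules.{u} A}
    (g : M ⟶ (SheafOfModules.restrictScalars φ).obj N) (V : (Opens X)ᵒᵖ) (a : A.obj.obj V)
    (m : Γ(M, V.unop)) :
    descApp φ hcen g V (tp φ hcen M V a m) = a • (show N.val.obj V from g.val.app V m) := rfl

theorem descApp_smul {M : X.Modules} {N : SheafOfModules.{u} A}
    (g : M ⟶ (SheafOfModules.restrictScalars φ).obj N) (V : (Opens X)ᵒᵖ) (b : A.obj.obj V)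
    (t : Tens φ hcen M V) :
    descApp φ hcen g V (b • t) = b • descApp φ hcen g V t := by
  induction t using tens_induction with
  | h0 => rw [smul_zero, map_zero, smul_zero]
  | ht a m => rw [smul_tp, descApp_tp, descApp_tp, mul_smul]
  | hadd x y hx hy => rw [smul_add, map_add, hx, hy, map_add, smul_add]

theorem res_descApp {M : X.Modules} {N : SheafOfModules.{u} A}
    (g : M ⟶ (SheafOfModules.restrictScalars φ).obj N) {V W : (Opens X)ᵒᵖ} (h : V ⟶ W)
    (t : Tens φ hcen M V) :
    descApp φ hcen g W (res φ hcen M h t) = N.val.map h (descApp φ hcen g V t) := by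
  induction t using tens_induction with
  | h0 => rw [map_zero, map_zero]; exact (map_zero (N.val.map h).hom).symm
  | ht a m =>
    rw [res_tp, descApp_tp, descApp_tp, N.val.map_smul]
    exact congrArg (A.obj.map h a • ·) (PresheafOfModules.naturality_apply g.val h m)
  | hadd x y hx hy =>
    rw [map_add, map_add, hx, hy, map_add]
    exact (map_add (N.val.map h).hom _ _).symm

/-- the adjoint of a morphism `M ⟶ restrictScalars N` -/
noncomputable def desc {M : X.Modules} {N : SheafOfModules.{u} A}
    (g : M ⟶ (SheafOfModules.restrictScalars φ).obj N) : tensPre φ hcen M ⟶ N.val :=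
  PresheafOfModules.homMk
    { app := fun V => AddCommGrpCat.ofHom (descApp φ hcen g V)
      naturality := fun V W h => by
        ext t
        exact res_descApp φ hcen g h t }
    (fun V b t => descApp_smul φ hcen g V b t)

/-- a morphism out of `A ⊗ M` gives a morphism out of `M` -/
noncomputable def undesc {M : X.Modules} {N : SheafOfModules.{u} A}
    (h : tensPre φ hcen M ⟶ N.val) : M ⟶ (SheafOfModules.restrictScalars φ).obj N :=
  ⟨PresheafOfModules.homMk (M₁ := M.val)
    { app := fun V => AddCommGrpCat.ofHom (AddMonoidHom.mk'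
        (fun m => (show N.val.obj V from h.app V (unitApp φ hcen M V m)))
        (fun m m' => (congrArg (h.app V) (map_add (unitApp φ hcen M V) m m')).trans
          (map_add (h.app V).hom _ _)))
      naturality := fun V W f => by
        ext m
        change h.app W (unitApp φ hcen M W (M.presheaf.map f m)) =
          N.val.map f (h.app V (unitApp φ hcen M V m))
        rw [← PresheafOfModules.naturality_apply h f (unitApp φ hcen M V m)]
        refine congrArg (h.app W) ?_
        show tp φ hcen M W 1 _ = res φ hcen M f (tp φ hcen M V 1 m)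
        rw [res_tp, map_one] }
    (fun V r m => (congrArg (h.app V) (unitApp_smul φ hcen M V r m)).trans
      ((h.app V).hom.map_smul _ _))⟩

theorem undesc_app_apply {M : X.Modules} {N : SheafOfModules.{u} A}
    (h : tensPre φ hcen M ⟶ N.val) (V : (Opens X)ᵒᵖ) (m : Γ(M, V.unop)) :
    (undesc φ hcen h).val.app V m = h.app V (unitApp φ hcen M V m) := rfl

theorem tmapApp_injective {M M' : X.Modules} (f : M ⟶ M') [Mono f] (V : (Opens X)ᵒᵖ)
    (hflat : letI := alg φ hcen V; Module.Flat Γ(X, V.unop) (A.obj.obj V)) :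
    Function.Injective (tmapApp φ hcen f V) := by
  letI := alg φ hcen V
  haveI := hflat
  let fl : Γ(M, V.unop) →ₗ[Γ(X, V.unop)] Γ(M', V.unop) :=
    { toFun := f.app V.unop
      map_add' := fun m m' => map_add _ m m'
      map_smul' := fun r m => Scheme.Modules.Hom.app_smul f r m }
  have h : ∀ t, tmapApp φ hcen f V t = fl.lTensor (A.obj.obj V) t := fun t => by
    induction t using tens_induction with
    | h0 => rw [map_zero]; exact (map_zero (fl.lTensor (A.obj.obj V))).symm
    | ht a m => rfl
    | hadd x y hx hy => rw [map_add, hx, hy]; exact (map_add (fl.lTensor (A.obj.obj V)) x y).symm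
  intro x y hxy
  rw [h, h] at hxy
  exact Module.Flat.lTensor_preserves_injective_linearMap fl (QCoh.app_injective f V.unop) hxy

theorem exists_flat
    (hA : FlatMod.IsFinLocFree (X := X)
      ((SheafOfModules.restrictScalars φ).obj (SheafOfModules.unit A))) (x : X) :
    ∃ U : X.Opens, x ∈ U ∧ ∀ W : X.Opens, W ≤ U →
      letI := alg φ hcen (op W)
      Module.Flat Γ(X, W) (A.obj.obj (op W)) := by
  obtain ⟨U, n, hx, ⟨e⟩⟩ := hA x
  obtain ⟨s, hs⟩ := H23.Frame.exists_frame e
  refine ⟨U, hx, fun W hW => ?_⟩
  letI := alg φ hcen (op W)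
  let M₀ : X.Modules := (SheafOfModules.restrictScalars φ).obj (SheafOfModules.unit A)
  have hlin : IsLinearMap Γ(X, W) (H23.Frame.comb M₀ s W hW) := by
    constructor
    · intro c c'
      simp only [H23.Frame.comb, Pi.add_apply, add_smul, Finset.sum_add_distrib]
    · intro r c
      simp only [H23.Frame.comb, Pi.smul_apply, smul_eq_mul, mul_smul, Finset.smul_sum]
  let e1 : (Fin n → Γ(X, W)) ≃ₗ[Γ(X, W)] Γ(M₀, W) :=
    LinearEquiv.ofBijective hlin.mk' (hs W hW)
  let e2 : Γ(M₀, W) ≃ₗ[Γ(X, W)] A.obj.obj (op W) :=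
    { toFun := fun a => a, invFun := fun a => a, left_inv := fun _ => rfl, right_inv := fun _ => rfl
      map_add' := fun _ _ => rfl
      map_smul' := fun _ _ => rfl }
  exact Module.Flat.of_linearEquiv (e1.trans e2).symm

theorem isLocallyInjective_tmap
    (hA : FlatMod.IsFinLocFree (X := X)
      ((SheafOfModules.restrictScalars φ).obj (SheafOfModules.unit A)))
    {M M' : X.Modules} (f : M ⟶ M') [Mono f] :
    Presheaf.IsLocallyInjective (Opens.grothendieckTopology X)
      ((PresheafOfModules.toPresheaf A.obj).map (tmap φ hcen f)) where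
  equalizerSieve_mem {V} x y hxy := by
    intro p hp
    obtain ⟨U, hpU, hU⟩ := exists_flat φ hcen hA p
    refine ⟨V.unop ⊓ U, homOfLE inf_le_left, ?_, ⟨hp, hpU⟩⟩
    let i : V ⟶ op (V.unop ⊓ U) := (homOfLE inf_le_left).op
    show res φ hcen M i x = res φ hcen M i y
    refine tmapApp_injective φ hcen f (op (V.unop ⊓ U)) (hU _ inf_le_right) ?_
    rw [res_tmapApp φ hcen f i, res_tmapApp φ hcen f i]
    exact congrArg (res φ hcen M' i) hxy

include hcen in
/-- restriction of scalars preserves injectives -/
theorem injective_restrictScalars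
    (hA : FlatMod.IsFinLocFree (X := X)
      ((SheafOfModules.restrictScalars φ).obj (SheafOfModules.unit A)))
    (I : SheafOfModules.{u} A) [Injective I] :
    Injective ((SheafOfModules.restrictScalars φ).obj I : X.Modules) where
  factors {M M'} g f hf := by
    let a := PresheafOfModules.sheafification (R := A) (𝟙 A.obj)
    let adj := PresheafOfModules.sheafificationAdjunction (R := A) (𝟙 A.obj)
    haveI : Mono (a.map (tmap φ hcen f)) := by
      have h1 := @isLocallyInjective_tmap X A φ hcen hA M M' f hf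
      have h2 : Sheaf.IsLocallyInjective ((presheafToSheaf (Opens.grothendieckTopology X) AddCommGrpCat.{u}).map
          ((PresheafOfModules.toPresheaf A.obj).map (tmap φ hcen f))) :=
        (Presheaf.isLocallyInjective_presheafToSheaf_map_iff _ _).2 h1
      have h3 := @Sheaf.mono_of_isLocallyInjective _ _ _ _ _ _ _ _ _ _ _ _ _ h2
      exact (SheafOfModules.toSheaf A).mono_of_mono_map h3
    let gh : a.obj (tensPre φ hcen M) ⟶ I := (adj.homEquiv _ _).symm (desc φ hcen g)
    let h := Injective.factorThru gh (a.map (tmap φ hcen f))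
    refine ⟨undesc φ hcen (adj.homEquiv _ _ h), ?_⟩
    have key : tmap φ hcen f ≫ adj.homEquiv _ _ h = desc φ hcen g := by
      rw [← Adjunction.homEquiv_naturality_left, Injective.comp_factorThru, Equiv.apply_symm_apply]
    apply SheafOfModules.Hom.ext
    refine PresheafOfModules.hom_ext fun V => ?_
    ext m
    have h2 := congrArg (fun (q : tensPre φ hcen M ⟶ I.val) => q.app V (unitApp φ hcen M V m)) key
    refine h2.trans ?_
    exact one_smul _ _

end Groth.Agent.AlgExt
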